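import Mathlib

/-!
# The spectrum of `³D₄(q)`, `q` a power of 2 or 3: interface (helper135, statement S3478)

* `Par p q` : `p ∈ {2, 3}`, `q = p ^ k > 2`;
* `mm q = q ^ 4 - q ^ 2 + 1`;
* `Om p q n` : the number `n` divides one of the maximal element orders of `³D₄(q)`.
-/

set_option autoImplicit false

namespace Cfsg.Agent.H135.TD

structure Par (p q : ℕ) : Prop where
  hp : p = 2 ∨ p = 3
  hk : ∃ k, 1 ≤ k ∧ q = p ^ k
  hq : 2 < q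

def mm (q : ℕ) : ℕ := q ^ 4 - q ^ 2 + 1

/-- `n` divides one of the maximal element orders of `³D₄(q)` -/
def Om (p q n : ℕ) : Prop :=
  n ∣ mm q ∨ n ∣ (q ^ 3 - 1) * (q + 1) ∨ n ∣ (q ^ 3 + 1) * (q - 1) ∨
    (p = 2 ∧ (n ∣ 8 ∨ n ∣ 4 * (q ^ 2 + q + 1) ∨ n ∣ 4 * (q ^ 2 - q + 1) ∨ n ∣ 2 * (q ^ 3 - 1) ∨ n ∣ 2 * (q ^ 3 + 1))) ∨
    (p = 3 ∧ (n ∣ 9 ∨ n ∣ 3 * (q ^ 3 - 1) ∨ n ∣ 3 * (q ^ 3 + 1)))

theorem Om.dvd {p q m n : ℕ} (h : Om p q n) (hd : m ∣ n) : Om p q m := by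
  rcases h with h | h | h | ⟨hp, h | h | h | h | h⟩ | ⟨hp, h | h | h⟩
  · exact Or.inl (hd.trans h)
  · exact Or.inr (Or.inl (hd.trans h))
  · exact Or.inr (Or.inr (Or.inl (hd.trans h)))
  · exact Or.inr (Or.inr (Or.inr (Or.inl ⟨hp, Or.inl (hd.trans h)⟩)))
  · exact Or.inr (Or.inr (Or.inr (Or.inl ⟨hp, Or.inr (Or.inl (hd.trans h))⟩)))
  · exact Or.inr (Or.inr (Or.inr (Or.inl ⟨hp, Or.inr (Or.inr (Or.inl (hd.trans h)))⟩)))
  · exact Or.inr (Or.inr (Or.inr (Or.inl ⟨hp, Or.inr (Or.inr (Or.inr (Or.inl (hd.trans h))))⟩)))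
  · exact Or.inr (Or.inr (Or.inr (Or.inl ⟨hp, Or.inr (Or.inr (Or.inr (Or.inr (hd.trans h))))⟩)))
  · exact Or.inr (Or.inr (Or.inr (Or.inr ⟨hp, Or.inl (hd.trans h)⟩)))
  · exact Or.inr (Or.inr (Or.inr (Or.inr ⟨hp, Or.inr (Or.inl (hd.trans h))⟩)))
  · exact Or.inr (Or.inr (Or.inr (Or.inr ⟨hp, Or.inr (Or.inr (hd.trans h))⟩)))

namespace Par

variable {p q : ℕ} (h : Par p q)

include h

theorem prime : p.Prime := by
  rcases h.hp with rfl | rfl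
  · exact Nat.prime_two
  · exact Nat.prime_three

theorem isPrimePow : IsPrimePow q := by
  obtain ⟨k, hk, rfl⟩ := h.hk
  exact h.prime.isPrimePow.pow (by omega)

theorem p_dvd : p ∣ q := by
  obtain ⟨k, hk, rfl⟩ := h.hk
  exact dvd_pow_self p (by omega)

/-- `q` is a power of 2 which is at least 4, or a power of 3 -/
theorem cases : (p = 2 ∧ 4 ∣ q ∧ 4 ≤ q) ∨ (p = 3 ∧ 3 ∣ q ∧ 3 ≤ q) := by
  obtain ⟨k, hk, hqk⟩ := h.hk
  have hq := h.hq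
  rcases h.hp with rfl | rfl
  · left
    have hk2 : 2 ≤ k := by
      by_contra hk2
      obtain rfl : k = 1 := by omega
      omega
    have h4 : 4 ∣ q := by
      rw [hqk]
      exact (by norm_num : (4 : ℕ) = 2 ^ 2) ▸ pow_dvd_pow 2 hk2
    exact ⟨rfl, h4, Nat.le_of_dvd (by omega) h4⟩
  · right
    exact ⟨rfl, hqk ▸ dvd_pow_self 3 (by omega), by omega⟩

/-- everything in terms of `a = q - 2`, in order to use `ring_nf`/`nlinarith` without subtraction -/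
theorem exists_add : ∃ a : ℕ, q = a + 3 := ⟨q - 3, by have := h.hq; omega⟩

end Par

theorem mm_add (a : ℕ) : mm (a + 3) = (a + 3) ^ 2 * ((a + 2) * (a + 4)) + 1 := by
  unfold mm
  have h1 : (a + 3) ^ 4 = (a + 3) ^ 2 * ((a + 2) * (a + 4)) + (a + 3) ^ 2 := by ring
  omega

end Cfsg.Agent.H135.TD
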