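import Cfsg.Agent.Cit.HexTorus
import Cfsg.Agent.ChevalleyStructure.FixedCard
import Cfsg.Agent.H135.TD.Spec

set_option autoImplicit false

/-!
# Facts on the field with `q ^ 3` elements (helper135)
-/

namespace Cfsg.Agent.H135.TD

open Cfsg.Agent.SplitTwo Cfsg.Agent.Cit.HexBase
open Cfsg.Agent.ChevalleyStructure

/-- the field of `q ^ 3` elements and its automorphism of order three -/
structure Fd (p q : ℕ) {E : Type*} [Field E] (σ : E ≃+* E) : Prop where
  par : Par p q
  fin : Finite E
  card : Nat.card E = q ^ 3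
  frob : ∀ x, σ x = x ^ q
  char : CharP E p

namespace Fd

variable {p q : ℕ} {E : Type*} [Field E] {σ : E ≃+* E} (hd : Fd p q σ)

include hd

theorem one_lt : 1 < q := by have := hd.par.hq; omega

theorem cube (t : E) : σ (σ (σ t)) = t := by
  have := hd.fin
  have := Fintype.ofFinite E
  rw [hd.frob, hd.frob, hd.frob, ← pow_mul, ← pow_mul]
  have h : q * (q * q) = q ^ 3 := by ring
  rw [h, ← hd.card, Nat.card_eq_fintype_card]
  exact FiniteField.pow_card t

theorem card_fx : Nat.card ↥(fx σ) = q := by
  have := hd.fin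
  have := Fintype.ofFinite E
  have h := hd.card
  rw [Nat.card_eq_fintype_card] at h
  rw [← FixedCard.card_fixed hd.one_lt h]
  exact Nat.card_congr (Equiv.subtypeEquivRight fun x => by rw [mem_fx, hd.frob])

theorem nrm_eq (s : E) : nrm σ s = s ^ (q ^ 2 + q + 1) := by
  unfold nrm
  rw [hd.frob, hd.frob, ← pow_mul, ← pow_succ', ← pow_add]
  congr 1
  ring

theorem exists_trc : ∃ a b : E, trc σ a b ≠ 0 := by
  classical
  have := hd.fin
  have := Fintype.ofFinite E
  have hK := hd.card
  rw [Nat.card_eq_fintype_card] at hK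
  have hq := hd.one_lt
  by_contra hcon
  push Not at hcon
  have h1 : ∀ z : E, z + z ^ q + z ^ (q ^ 2) = 0 := by
    intro z
    have := hcon 1 z
    rw [trc, one_mul, hd.frob, hd.frob, ← pow_mul] at this
    rw [pow_two]
    exact this
  let P : Polynomial E := Polynomial.X + Polynomial.X ^ q + Polynomial.X ^ (q ^ 2)
  have hq2 : q < q ^ 2 := by nlinarith
  have hdeg : P.natDegree ≤ q ^ 2 := by
    refine Polynomial.natDegree_add_le_of_degree_le (Polynomial.natDegree_add_le_of_degree_le ?_ ?_) ?_
    · rw [Polynomial.natDegree_X]; omega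
    · rw [Polynomial.natDegree_X_pow]; omega
    · rw [Polynomial.natDegree_X_pow]
  have hP : P = 0 := by
    refine Polynomial.eq_zero_of_natDegree_lt_card_of_eval_eq_zero P (f := id) Function.injective_id (fun z => ?_) ?_
    · simp only [P, Polynomial.eval_add, Polynomial.eval_X, Polynomial.eval_pow, id_eq]
      exact h1 z
    · rw [hK]
      have : q ^ 2 < q ^ 3 := by nlinarith
      omega
  have h2 : P.coeff 1 = 1 := by
    simp only [P, Polynomial.coeff_add, Polynomial.coeff_X_one, Polynomial.coeff_X_pow]
    rw [if_neg (by omega), if_neg (by omega), add_zero, add_zero]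
  rw [hP, Polynomial.coeff_zero] at h2
  exact zero_ne_one h2

omit hd in
theorem trc_mul {t : E} (ht : σ t = t) (a b : E) : trc σ a (t * b) = t * trc σ a b := by
  unfold trc
  simp only [map_mul, ht]
  ring

/-- every element of the fixed field is a value of the trace form -/
theorem exists_trc_eq {t : E} (ht : σ t = t) : ∃ a b : E, trc σ a b = t := by
  obtain ⟨a, b, h⟩ := hd.exists_trc
  have h1 : σ (trc σ a b) = trc σ a b := trc_fix hd.cube a b
  refine ⟨a, t * (trc σ a b)⁻¹ * b, ?_⟩
  rw [trc_mul (mul_fix ht (inv_fix h1)), inv_mul_cancel_right₀ h]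

theorem q_pos : 0 < q := by have := hd.par.hq; omega

theorem char_fx : CharP ↥(fx σ) p := by
  have := hd.char
  exact (RingHom.charP_iff (fx σ).subtype (fx σ).subtype.injective p).2 inferInstance

end Fd

end Cfsg.Agent.H135.TD
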