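import Cfsg.Agent.H129.CycT2
import Cfsg.Agent.S1067
import Cfsg.Agent.H135.TD.Num

/-!
# Elements of `³D₄(q)` (helper135)
-/

set_option autoImplicit false

namespace Cfsg.Agent.H135.TD

open Cfsg Cfsg.Lie

variable {K : Type*} [Field K] [Fintype K] {p q : ℕ}

theorem exists_mm (hP : Par p q) (hK : Fintype.card K = q ^ 3) : ∃ l : ↥(twistedD4 K q), orderOf l = mm q := by
  have hle : q ^ 2 ≤ q ^ 4 := Nat.pow_le_pow_right (by have := hP.hq; omega) (by norm_num)
  obtain ⟨T, hT, hcard, -⟩ := Cfsg.Agent.H129.CycT.exact_tD4_12 (F := K) hP.isPrimePow hK (N := mm q) (by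
    unfold mm
    push_cast [Nat.cast_sub hle]
    ring)
  obtain ⟨x, hx⟩ := hT.exists_generator
  exact ⟨x, by rw [Subgroup.orderOf_coe, orderOf_eq_card_of_forall_mem_zpowers hx, hcard]⟩

theorem exists_prime_order (hP : Par p q) (hK : Fintype.card K = q ^ 3) {r : ℕ} (hr : r.Prime)
    (h : r = 2 ∨ r ∣ q ^ 2 + q + 1 ∨ r ∣ q ^ 2 - q + 1) : ∃ l : ↥(twistedD4 K q), orderOf l = r := by
  have hfr : Fact r.Prime := ⟨hr⟩
  have hq := hP.hq
  have hfin : Finite ↥(twistedD4 K q) := inferInstance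
  apply exists_prime_orderOf_dvd_card'
  rw [Cfsg.Agent.S1067.result hP.isPrimePow hK]
  have h6 : q ^ 6 - 1 = (q ^ 3 - 1) * (q ^ 3 + 1) := by
    have hc : 1 ≤ q ^ 3 := Nat.one_le_pow _ _ (by omega)
    obtain ⟨a, ha⟩ : ∃ a, q ^ 3 = a + 1 := ⟨q ^ 3 - 1, by omega⟩
    have : q ^ 6 = (a + 1) * (a + 1) := by rw [← ha]; ring
    rw [this, ha]
    have : (a + 1) * (a + 1) = (a + 1 - 1) * (a + 1 + 1) + 1 := by
      rw [Nat.add_sub_cancel]
      ring
    omega
  rcases h with rfl | h | h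
  · have : 2 ∣ q ^ 12 * (q ^ 2 - 1) := by
      rcases Nat.even_or_odd q with he | ho
      · exact Dvd.dvd.mul_right (dvd_pow he.two_dvd (by norm_num)) _
      · apply Dvd.dvd.mul_left
        obtain ⟨b, rfl⟩ := ho
        have : (2 * b + 1) ^ 2 = 2 * (2 * b ^ 2 + 2 * b) + 1 := by ring
        rw [this, Nat.add_sub_cancel]
        exact Dvd.intro _ rfl
    rw [mul_assoc]
    exact Dvd.dvd.mul_right this _
  · have : r ∣ q ^ 6 - 1 := by
      rw [h6, cube_sub (by omega)]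
      exact Dvd.dvd.mul_right (Dvd.dvd.mul_right h _) _
    exact Dvd.dvd.mul_right (Dvd.dvd.mul_left this _) _
  · have : r ∣ q ^ 6 - 1 := by
      rw [h6, cube_add (by omega)]
      exact Dvd.dvd.mul_left (Dvd.dvd.mul_right h _) _
    exact Dvd.dvd.mul_right (Dvd.dvd.mul_left this _) _

end Cfsg.Agent.H135.TD
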